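import Cfsg.Agent.Lib.Leech.Fam
import Cfsg.Agent.Lib.Leech.M.Act0
import Cfsg.Agent.Lib.Leech.M.Act1
import Cfsg.Agent.Lib.Leech.M.Act2
import Cfsg.Agent.Lib.Leech.M.Act3

set_option autoImplicit false
set_option maxRecDepth 100000
set_option exponentiation.threshold 100000

namespace Cfsg.Agent.Leech.M

open Cfsg Cfsg.Agent.PG Cfsg.Agent.Golay Cfsg.Agent.Leech Equiv
open scoped Pointwise

/-- a standard vector -/
def U : List ℤ := [4, 4, 0, 0, 0, 0, 0, 0, 0, 0, 0, 0, 0, 0, 0, 0, 0, 0, 0, 0, 0, 0, 0, 0]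
/-- a standard vector -/
def U2 : List ℤ := [4, -4, 0, 0, 0, 0, 0, 0, 0, 0, 0, 0, 0, 0, 0, 0, 0, 0, 0, 0, 0, 0, 0, 0]
/-- a standard vector -/
def W8 : List ℤ := [1, -3, 1, 1, 1, 1, 1, 1, 1, 1, 1, 1, 1, 1, 1, 1, 1, 1, 1, 1, 1, 1, 1, 1]
/-- a standard vector -/
def W16 : List ℤ := [-4, 0, 4, 0, 0, 0, 0, 0, 0, 0, 0, 0, 0, 0, 0, 0, 0, 0, 0, 0, 0, 0, 0, 0]
/-- a standard vector -/
def u0 : List ℤ := [5, 1, 1, 1, 1, 1, 1, 1, 1, 1, 1, 1, 1, 1, 1, 1, 1, 1, 1, 1, 1, 1, 1, 1]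

theorem XU : X P 98281 = mkL U := X_eq (by decide +kernel)
theorem nU : sqNorm (mkL U : V) = 32 := norm_mkL (by decide +kernel)
theorem XU2 : X P 98279 = mkL U2 := X_eq (by decide +kernel)
theorem nU2 : sqNorm (mkL U2 : V) = 32 := norm_mkL (by decide +kernel)
theorem XW8 : X P 176225 = mkL W8 := X_eq (by decide +kernel)
theorem nW8 : sqNorm (mkL W8 : V) = 32 := norm_mkL (by decide +kernel)
theorem XW16 : X P 98283 = mkL W16 := X_eq (by decide +kernel)
theorem nW16 : sqNorm (mkL W16 : V) = 32 := norm_mkL (by decide +kernel)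
theorem nu0 : sqNorm (mkL u0 : V) = 48 := norm_mkL (by decide +kernel)
theorem hl : A.length ≤ 128 := by decide

theorem actsN : ∀ σ ∈ K A 1, ∃ g ∈ NN, Acts (X P) (bset B) g σ := acts_K_sub fun j h1 h2 => by
  have h3 : j < 4 := h2
  interval_cases j
  · exact g1co.imp fun g hg => ⟨hg.mem_NN (p := 0) (q := 11) (by omega) (by omega) (by decide +kernel), acts1 hg⟩
  · exact g2co.imp fun g hg => ⟨hg.mem_NN (p := 0) (q := 1) (by omega) (by omega) (by decide +kernel), acts2 hg⟩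
  · exact g3co.imp fun g hg => ⟨hg.mem_NN (p := 0) (q := 1) (by omega) (by omega) (by decide +kernel), acts3 hg⟩

theorem acts : ∀ σ ∈ K A 0, ∃ g ∈ (⊤ : Subgroup Co0), Acts (X P) (bset B) g σ := acts_K_sub fun j h1 h2 => by
  have h3 : j < 4 := h2
  interval_cases j
  · exact g0co.imp fun g hg => ⟨trivial, acts0 hg⟩
  · exact g1co.imp fun g hg => ⟨trivial, acts1 hg⟩
  · exact g2co.imp fun g hg => ⟨trivial, acts2 hg⟩
  · exact g3co.imp fun g hg => ⟨trivial, acts3 hg⟩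

theorem cov0 : coverB A (kgens A 0) 8 [98281] B = true := by decide +kernel

theorem lay : Lay A P B ⊤ := ⟨⟨_, hA⟩, acts, hmem, injOn_X hmem (by decide) hsort,
  min_of_cover hA hl acts cov0 (by simp [XU, nU])⟩

theorem ncard_min : (fam []).ncard = 196560 := by
  have : fam [] = {x : L | sqNorm (x : V) = 32} := by ext x; simp [fam]
  rw [this]; exact (ncard_L fun x => sqNorm x = 32).trans count32

theorem full : Full P B [] := by
  have := Set.eq_of_subset_of_ncard_le (s := X P '' bset B) (t := fam [])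
    (by rintro _ ⟨i, hi, rfl⟩; exact ⟨lay.min i hi, by simp⟩)
    (by rw [ncard_min, lay.inj.ncard_image, ncard_bset_ivl]) (finite_fam _)
  intro x hx
  rwa [← this] at hx

theorem min_trans {x : L} (hx : sqNorm (x : V) = 32) : ∃ g : Co0, g • mkL U = x := by
  obtain ⟨i, hi, rfl⟩ := full x ⟨hx, by simp⟩
  obtain ⟨a, ha, σ, hσ, rfl⟩ := coverB_spec hA (kgens_mem hl 0) cov0 hi
  obtain ⟨g, _, hg⟩ := acts σ hσ
  rw [List.mem_singleton.1 ha] at hi ⊢
  exact ⟨g, by rw [← XU]; exact hg.2 _ (mem_bset_ivl.2 (by omega))⟩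

end Cfsg.Agent.Leech.M
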