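import Cfsg.Agent.Lib.Leech.M.Co2

set_option autoImplicit false
set_option maxRecDepth 100000
set_option exponentiation.threshold 100000

namespace Cfsg.Agent.Leech.M

open Cfsg Cfsg.Agent.PG Cfsg.Agent.Golay Cfsg.Agent.Leech Equiv
open scoped Pointwise

theorem oN_1104 : orbCardB A 15 1 98281 7 1104 = true := by decide +kernel
theorem oN_97152 : orbCardB A 15 1 2094 9 97152 = true := by decide +kernel
theorem xN_97152 : X P 2094 = mkL [0, -2, 0, 0, 0, 0, 0, 0, 0, 0, -2, 0, 0, -2, 0, 0, 0, 0, 0, -2, -2, -2, -2, -2] := X_eq (by decide +kernel)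
theorem oN_98304 : orbCardB A 15 1 46 9 98304 = true := by decide +kernel
theorem xN_98304 : X P 46 = mkL [1, -1, 1, -1, 1, 1, 1, -1, -1, -1, 1, 1, -1, -1, -1, -1, -1, -1, -1, -1, -1, -1, -1, -3] := X_eq (by decide +kernel)
theorem unN : unB A P B [] 15 1 9 [(98281, 7, 1104), (2094, 9, 97152), (46, 9, 98304)] = true := by decide +kernel
theorem hoN : ∀ q ∈ [(98281, 7, 1104), (2094, 9, 97152), (46, 9, 98304)], orbCardB A 15 1 q.1 q.2.1 q.2.2 = true := by
  simp only [List.forall_mem_cons, oN_1104, oN_97152, oN_98304, List.not_mem_nil, false_imp_iff, implies_true, and_self]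

theorem oNU_2 : orbCardB A 15 2 98279 2 2 = true := by decide +kernel
theorem oNU_924 : orbCardB A 15 2 0 10 924 = true := by decide +kernel
theorem xNU_924 : X P 0 = mkL [0, 0, 0, 0, 0, 0, 0, 0, 0, 0, 0, 0, 0, 0, 0, 0, 0, 0, 0, 0, 0, 0, -4, -4] := X_eq (by decide +kernel)
theorem oNU_4928 : orbCardB A 15 2 2224 12 4928 = true := by decide +kernel
theorem xNU_4928 : X P 2224 = mkL [2, -2, 0, 2, 0, 0, 0, 0, 0, 0, 0, 0, -2, 0, 0, -2, 0, 0, 0, 0, 0, -2, -2, -2] := X_eq (by decide +kernel)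
theorem oNU_42240 : orbCardB A 15 2 2098 15 42240 = true := by decide +kernel
theorem xNU_42240 : X P 2098 = mkL [0, 0, 0, -2, -2, 0, 0, 0, 0, 0, 0, 0, 0, 0, 0, 0, -2, 0, -2, 0, -2, -2, -2, -2] := X_eq (by decide +kernel)
theorem oNU_45056 : orbCardB A 15 2 46 14 45056 = true := by decide +kernel
theorem xNU_45056 : X P 46 = mkL [1, -1, 1, -1, 1, 1, 1, -1, -1, -1, 1, 1, -1, -1, -1, -1, -1, -1, -1, -1, -1, -1, -1, -3] := X_eq (by decide +kernel)
theorem unNU : unB A P B [(U, 0)] 15 2 15 [(98279, 2, 2), (0, 10, 924), (2224, 12, 4928), (2098, 15, 42240), (46, 14, 45056)] = true := by decide +kernel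
theorem hoNU : ∀ q ∈ [(98279, 2, 2), (0, 10, 924), (2224, 12, 4928), (2098, 15, 42240), (46, 14, 45056)], orbCardB A 15 2 q.1 q.2.1 q.2.2 = true := by
  simp only [List.forall_mem_cons, oNU_2, oNU_924, oNU_4928, oNU_42240, oNU_45056, List.not_mem_nil, false_imp_iff, implies_true, and_self]

end Cfsg.Agent.Leech.M
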